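import Mathlib.RingTheory.Nullstellensatz
import Mathlib.RingTheory.Valuation.LocalSubring
import Mathlib.RingTheory.AlgebraicIndependent.TranscendenceBasis
import Mathlib.RingTheory.AlgebraicIndependent.Transcendental
import Mathlib.LinearAlgebra.FiniteDimensional.Lemmas
import Mathlib.Algebra.BigOperators.Field

/-!
# Hopf's lemma on bilinear maps without zero divisors over an algebraically closed field
-/

set_option autoImplicit false
set_option linter.style.haveILetI false
set_option backward.isDefEq.respectTransparency false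
set_option backward.isDefEq.respectTransparency.types false

universe u

open Cardinal

namespace Groth.Agent.HopfLem5

variable {k : Type u} [Field k] [IsAlgClosed k] {a b c : ℕ}
  (β : Fin (a + 1) → Fin (b + 1) → Fin c → k)

theorem le_of_nondegenerate
    (h : ∀ (x : Fin (a + 1) → k) (y : Fin (b + 1) → k),
      (∀ l, ∑ i, ∑ j, β i j l * (x i * y j) = 0) → x = 0 ∨ y = 0) :
    a + b + 1 ≤ c := by
  classical
  let X₁ : Fin (a + 1) → (FractionRing (MvPolynomial (Fin (a + 1) ⊕ Fin (b + 1)) k)) := fun i => algebraMap (MvPolynomial (Fin (a + 1) ⊕ Fin (b + 1)) k) (FractionRing (MvPolynomial (Fin (a + 1) ⊕ Fin (b + 1)) k)) (MvPolynomial.X (Sum.inl i))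
  let Y₁ : Fin (b + 1) → (FractionRing (MvPolynomial (Fin (a + 1) ⊕ Fin (b + 1)) k)) := fun j => algebraMap (MvPolynomial (Fin (a + 1) ⊕ Fin (b + 1)) k) (FractionRing (MvPolynomial (Fin (a + 1) ⊕ Fin (b + 1)) k)) (MvPolynomial.X (Sum.inr j))
  have hX0 : ∀ i, X₁ i ≠ 0 := fun i h0 =>
    MvPolynomial.X_ne_zero _ (IsFractionRing.injective (MvPolynomial (Fin (a + 1) ⊕ Fin (b + 1)) k) (FractionRing (MvPolynomial (Fin (a + 1) ⊕ Fin (b + 1)) k)) (h0.trans (map_zero _).symm))
  have hY0 : ∀ j, Y₁ j ≠ 0 := fun j h0 =>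
    MvPolynomial.X_ne_zero _ (IsFractionRing.injective (MvPolynomial (Fin (a + 1) ⊕ Fin (b + 1)) k) (FractionRing (MvPolynomial (Fin (a + 1) ⊕ Fin (b + 1)) k)) (h0.trans (map_zero _).symm))
  let B : Fin c → (FractionRing (MvPolynomial (Fin (a + 1) ⊕ Fin (b + 1)) k)) := fun l => ∑ i, ∑ j, algebraMap k (FractionRing (MvPolynomial (Fin (a + 1) ⊕ Fin (b + 1)) k)) (β i j l) * (X₁ i * Y₁ j)
  let R := Algebra.adjoin k (Set.range B)
  -- no solution over any extension
  have hext : ∀ (κ : Type u) [Field κ] (φ : k →+* κ) (x : Fin (a + 1) → κ) (y : Fin (b + 1) → κ) (p : Fin (a + 1))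
      (q : Fin (b + 1)), x p = 1 → y q = 1 → ¬ ∀ l, ∑ i, ∑ j, φ (β i j l) * (x i * y j) = 0 := by
    intro κ _ φ x y p q hp hq hsol
    let eq : Fin c → (MvPolynomial (Fin (a + 1) ⊕ Fin (b + 1)) k) := fun l =>
      ∑ i, ∑ j, MvPolynomial.C (β i j l) * (MvPolynomial.X (Sum.inl i) * MvPolynomial.X (Sum.inr j))
    let I : Ideal (MvPolynomial (Fin (a + 1) ⊕ Fin (b + 1)) k) := Ideal.span (Set.range eq ∪
      {MvPolynomial.X (Sum.inl p) - 1, MvPolynomial.X (Sum.inr q) - 1})
    have hI : I ≠ ⊤ := by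
      intro htop
      have hle : I ≤ RingHom.ker (MvPolynomial.eval₂Hom φ (Sum.elim x y)) := by
        rw [Ideal.span_le]
        rintro g (⟨l, rfl⟩ | rfl | rfl)
        · simpa [eq] using hsol l
        · simp [hp]
        · simp [hq]
      have := hle (htop ▸ Submodule.mem_top : (1 : (MvPolynomial (Fin (a + 1) ⊕ Fin (b + 1)) k)) ∈ I)
      simp at this
    obtain ⟨M, hM, hIM⟩ := Ideal.exists_le_maximal I hI
    obtain ⟨z, hz⟩ := MvPolynomial.isMaximal_iff_eq_vanishingIdeal_singleton.1 hM
    have hv : ∀ g ∈ I, MvPolynomial.eval z g = 0 := fun g hg => by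
      have := hz ▸ hIM hg
      simpa [MvPolynomial.mem_vanishingIdeal_singleton_iff] using this
    rcases h (fun i => z (Sum.inl i)) (fun j => z (Sum.inr j)) (fun l => by
      simpa [eq] using hv _ (Ideal.subset_span (Or.inl ⟨l, rfl⟩))) with h0 | h0
    · have := hv _ (Ideal.subset_span (Or.inr (Or.inl rfl)))
      simp [show z (Sum.inl p) = 0 from congrFun h0 p] at this
    · have := hv _ (Ideal.subset_span (Or.inr (Or.inr rfl)))
      simp [show z (Sum.inr q) = 0 from congrFun h0 q] at this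
  -- the products are integral
  have hint : ∀ i j, X₁ i * Y₁ j ∈ (integralClosure (Subring.closure ((R : Set (FractionRing (MvPolynomial (Fin (a + 1) ⊕ Fin (b + 1)) k))))) (FractionRing (MvPolynomial (Fin (a + 1) ⊕ Fin (b + 1)) k))).toSubring := by
    intro i j
    rw [← iInf_valuationSubring_superset, Subring.mem_iInf]
    rintro ⟨V, hV⟩
    show X₁ i * Y₁ j ∈ V
    obtain ⟨p, -, hp⟩ := Finset.exists_max_image Finset.univ (fun i => V.valuation (X₁ i)) Finset.univ_nonempty
    obtain ⟨q, -, hq⟩ := Finset.exists_max_image Finset.univ (fun j => V.valuation (Y₁ j)) Finset.univ_nonempty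
    rw [← V.valuation_le_one_iff, map_mul]
    refine le_trans (mul_le_mul' (hp i (Finset.mem_univ _)) (hq j (Finset.mem_univ _))) ?_
    rw [← map_mul]
    by_contra hgt
    rw [not_le] at hgt
    have hpos : ∀ (z w : (FractionRing (MvPolynomial (Fin (a + 1) ⊕ Fin (b + 1)) k))), w ≠ 0 → V.valuation z ≤ V.valuation w → z / w ∈ V := fun z w hw hle => by
      rw [← V.valuation_le_one_iff, map_div₀, div_le_one₀ (zero_lt_iff.2 ((V.valuation.ne_zero_iff).2 hw))]
      exact hle
    let x' : Fin (a + 1) → V := fun i => ⟨X₁ i / X₁ p, hpos _ _ (hX0 p) (hp i (Finset.mem_univ _))⟩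
    let y' : Fin (b + 1) → V := fun j => ⟨Y₁ j / Y₁ q, hpos _ _ (hY0 q) (hq j (Finset.mem_univ _))⟩
    have hkV : ∀ t : k, algebraMap k (FractionRing (MvPolynomial (Fin (a + 1) ⊕ Fin (b + 1)) k)) t ∈ V := fun t => hV (R.algebraMap_mem t)
    let ψ : k →+* V := (algebraMap k (FractionRing (MvPolynomial (Fin (a + 1) ⊕ Fin (b + 1)) k))).codRestrict V.toSubring hkV
    refine hext (IsLocalRing.ResidueField V) ((IsLocalRing.residue V).comp ψ)
      (fun i => IsLocalRing.residue V (x' i)) (fun j => IsLocalRing.residue V (y' j)) p q ?_ ?_ fun l => ?_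
    · rw [show x' p = 1 from Subtype.ext (div_self (hX0 p)), map_one]
    · rw [show y' q = 1 from Subtype.ext (div_self (hY0 q)), map_one]
    · simp only [RingHom.comp_apply, ← map_mul, ← map_sum]
      rw [IsLocalRing.residue_eq_zero_iff, V.valuation_lt_one_iff]
      have hval : ((∑ i, ∑ j, ψ (β i j l) * (x' i * y' j) : V) : (FractionRing (MvPolynomial (Fin (a + 1) ⊕ Fin (b + 1)) k))) = B l / (X₁ p * Y₁ q) := by
        simp only [B, AddSubmonoidClass.coe_finsetSum, MulMemClass.coe_mul, Finset.sum_div]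
        refine Finset.sum_congr rfl fun i _ => Finset.sum_congr rfl fun j _ => ?_
        show algebraMap k (FractionRing (MvPolynomial (Fin (a + 1) ⊕ Fin (b + 1)) k)) _ * ((X₁ i / X₁ p) * (Y₁ j / Y₁ q)) = _
        field_simp [hX0, hY0]
      rw [hval, map_div₀, div_lt_one₀ (lt_trans zero_lt_one hgt)]
      exact lt_of_le_of_lt ((V.valuation_le_one_iff _).2 (hV (Algebra.subset_adjoin ⟨l, rfl⟩))) hgt
  -- transcendence degree
  let A : Subalgebra k (FractionRing (MvPolynomial (Fin (a + 1) ⊕ Fin (b + 1)) k)) :=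
    { (integralClosure (Subring.closure (R : Set (FractionRing (MvPolynomial (Fin (a + 1) ⊕ Fin (b + 1)) k)))) (FractionRing (MvPolynomial (Fin (a + 1) ⊕ Fin (b + 1)) k))).toSubring with
      algebraMap_mem' := fun t => isIntegral_algebraMap (R := Subring.closure (R : Set (FractionRing (MvPolynomial (Fin (a + 1) ⊕ Fin (b + 1)) k))))
        (x := ⟨algebraMap k (FractionRing (MvPolynomial (Fin (a + 1) ⊕ Fin (b + 1)) k)) t, Subring.subset_closure (R.algebraMap_mem t)⟩) }
  letI : Algebra R A := (Subalgebra.inclusion (show R ≤ A from fun t ht =>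
    isIntegral_algebraMap (R := Subring.closure (R : Set (FractionRing (MvPolynomial (Fin (a + 1) ⊕ Fin (b + 1)) k)))) (x := ⟨t, Subring.subset_closure ht⟩))).toAlgebra
  haveI : IsScalarTower k R A := IsScalarTower.of_algebraMap_eq fun _ => rfl
  haveI : FaithfulSMul R A := (faithfulSMul_iff_algebraMap_injective R A).2 (Subalgebra.inclusion_injective _)
  haveI : Algebra.IsAlgebraic R A := by
    refine ⟨fun t => ?_⟩
    obtain ⟨g, hg, hev⟩ := (t.2 : IsIntegral (Subring.closure (R : Set (FractionRing (MvPolynomial (Fin (a + 1) ⊕ Fin (b + 1)) k)))) (t : (FractionRing (MvPolynomial (Fin (a + 1) ⊕ Fin (b + 1)) k))))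
    let e : Subring.closure (R : Set (FractionRing (MvPolynomial (Fin (a + 1) ⊕ Fin (b + 1)) k))) →+* R :=
      (Subring.closure (R : Set (FractionRing (MvPolynomial (Fin (a + 1) ⊕ Fin (b + 1)) k)))).subtype.codRestrict R fun z =>
        (Subring.closure_le (t := R.toSubring)).2 subset_rfl z.2
    refine ⟨g.map e, (hg.map e).ne_zero, ?_⟩
    apply Subtype.val_injective
    rw [Polynomial.aeval_def, Polynomial.eval₂_map]
    show A.val.toRingHom (Polynomial.eval₂ _ t g) = _
    rw [Polynomial.hom_eval₂]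
    exact hev
  have hR : Algebra.trdeg k R ≤ c := by
    let f : MvPolynomial (Fin c) k →ₐ[k] R := (MvPolynomial.aeval B).codRestrict R fun g => by
      show _ ∈ Algebra.adjoin k (Set.range B)
      rw [Algebra.adjoin_range_eq_range_aeval]
      exact ⟨g, rfl⟩
    have hf : Function.Surjective f := fun t => by
      obtain ⟨g, hg⟩ := (Algebra.adjoin_range_eq_range_aeval k B).le t.2
      exact ⟨g, Subtype.ext hg⟩
    have := lift_trdeg_le_of_surjective f hf
    rw [MvPolynomial.trdeg_of_isDomain] at this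
    simpa using this
  have hA : Algebra.trdeg k A ≤ c := by
    rw [← trdeg_add_eq k R (A := A), trdeg_eq_zero (R := R) (A := A), add_zero]
    exact hR
  -- the independent family
  let T : Fin (a + 1) ⊕ Fin b → A := Sum.elim (fun i => ⟨X₁ i * Y₁ 0, hint i 0⟩)
    (fun j => ⟨X₁ 0 * Y₁ j.succ, hint 0 j.succ⟩)
  have hT : AlgebraicIndependent k T := by
    let G := FractionRing (MvPolynomial (Fin (a + 1) ⊕ Fin b) k)
    let ψ : (MvPolynomial (Fin (a + 1) ⊕ Fin (b + 1)) k) →ₐ[k] G := MvPolynomial.aeval (Sum.elim (fun i => algebraMap (MvPolynomial (Fin (a + 1) ⊕ Fin b) k) G (MvPolynomial.X (Sum.inl i)))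
      (Fin.cons 1 fun j => algebraMap (MvPolynomial (Fin (a + 1) ⊕ Fin b) k) G (MvPolynomial.X (Sum.inr j)) / algebraMap (MvPolynomial (Fin (a + 1) ⊕ Fin b) k) G (MvPolynomial.X (Sum.inl 0))))
    let T' : Fin (a + 1) ⊕ Fin b → (MvPolynomial (Fin (a + 1) ⊕ Fin (b + 1)) k) := Sum.elim (fun i => MvPolynomial.X (Sum.inl i) * MvPolynomial.X (Sum.inr 0))
      (fun j => MvPolynomial.X (Sum.inl 0) * MvPolynomial.X (Sum.inr j.succ))
    have hψ : ψ.comp (MvPolynomial.aeval T') = IsScalarTower.toAlgHom k (MvPolynomial (Fin (a + 1) ⊕ Fin b) k) G := by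
      refine MvPolynomial.algHom_ext fun s => ?_
      rcases s with i | j
      · simp [T', ψ]
      · simp only [T', ψ, AlgHom.comp_apply, MvPolynomial.aeval_X, Sum.elim_inr, Sum.elim_inl, map_mul,
          Fin.cons_succ, IsScalarTower.coe_toAlgHom']
        rw [mul_comm, div_mul_cancel₀]
        exact fun h0 => MvPolynomial.X_ne_zero _ (IsFractionRing.injective (MvPolynomial (Fin (a + 1) ⊕ Fin b) k) G (h0.trans (map_zero _).symm))
    have hT' : AlgebraicIndependent k T' := fun g₁ g₂ he =>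
      IsFractionRing.injective (MvPolynomial (Fin (a + 1) ⊕ Fin b) k) G ((AlgHom.congr_fun hψ g₁).symm.trans ((congrArg ψ he).trans (AlgHom.congr_fun hψ g₂)))
    have hTF : AlgebraicIndependent k (A.val ∘ T) := by
      have := hT'.map' (f := IsScalarTower.toAlgHom k (MvPolynomial (Fin (a + 1) ⊕ Fin (b + 1)) k) (FractionRing (MvPolynomial (Fin (a + 1) ⊕ Fin (b + 1)) k))) (IsFractionRing.injective (MvPolynomial (Fin (a + 1) ⊕ Fin (b + 1)) k) (FractionRing (MvPolynomial (Fin (a + 1) ⊕ Fin (b + 1)) k)))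
      convert this using 1
      funext s
      rcases s with i | j <;> simp [T, T', X₁, Y₁]
    exact hTF.of_comp A.val
  have := hT.lift_cardinalMk_le_trdeg.trans (Cardinal.lift_le.2 hA)
  simp at this
  have h' : a + 1 + b ≤ c := by exact_mod_cast this
  omega

/-- Hopf's lemma. -/
theorem finrank_add_le {V W U : Type*} [AddCommGroup V] [Module k V] [FiniteDimensional k V]
    [AddCommGroup W] [Module k W] [FiniteDimensional k W] [AddCommGroup U] [Module k U] [FiniteDimensional k U]
    [Nontrivial V] [Nontrivial W] (f : V →ₗ[k] W →ₗ[k] U) (hf : ∀ v w, f v w = 0 → v = 0 ∨ w = 0) :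
    Module.finrank k V + Module.finrank k W ≤ Module.finrank k U + 1 := by
  obtain ⟨a, ha⟩ : ∃ a, Module.finrank k V = a + 1 := ⟨_, (Nat.succ_pred_eq_of_pos Module.finrank_pos).symm⟩
  obtain ⟨b, hb⟩ : ∃ b, Module.finrank k W = b + 1 := ⟨_, (Nat.succ_pred_eq_of_pos Module.finrank_pos).symm⟩
  let eV := Module.finBasisOfFinrankEq k V ha
  let eW := Module.finBasisOfFinrankEq k W hb
  let eU := Module.finBasis k U
  have key := le_of_nondegenerate (fun i j l => eU.repr (f (eV i) (eW j)) l) fun x y hxy => by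
    have h0 : f (∑ i, x i • eV i) (∑ j, y j • eW j) = 0 := by
      apply eU.repr.injective
      ext l
      simp only [map_sum, map_smul, LinearMap.sum_apply, LinearMap.smul_apply, Finset.smul_sum, smul_smul,
        Finsupp.coe_finset_sum, Finset.sum_apply, Finsupp.smul_apply, smul_eq_mul, map_zero, Finsupp.zero_apply]
      refine Eq.trans ?_ (hxy l)
      rw [Finset.sum_comm]
      exact Finset.sum_congr rfl fun i _ => Finset.sum_congr rfl fun j _ => by ring
    refine (hf _ _ h0).imp (fun hv => funext fun i => ?_) fun hw => funext fun j => ?_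
    · exact Fintype.linearIndependent_iff.1 eV.linearIndependent x hv i
    · exact Fintype.linearIndependent_iff.1 eW.linearIndependent y hw j
  omega

end Groth.Agent.HopfLem5
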